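import Groth.Prelude.Def_AlphaP
import Mathlib.Algebra.DualNumber
import Mathlib.Tactic

/-! # Alternating pairings of `α_p` with vanishing bracket are trivial -/

set_option autoImplicit false
set_option linter.style.haveILetI false
universe u

open DualNumber TrivSqZeroExt

namespace Groth.Agent.PrimeExt15

theorem fst_eq_of_eps_mul {R : Type u} [CommRing R] {a b : DualNumber R} (h : ε * a = ε * b) :
    fst a = fst b := by
  simpa [DualNumber.snd_mul] using congrArg snd h

/-- A polynomial of degree `< p` invariant under an infinitesimal translation is constant. -/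
theorem eq_zero_of_invariant (k : Type u) [Field k] (p : ℕ) [Fact p.Prime] [CharP k p]
    (C : Type u) [CommRing C] [Algebra k C] [Nontrivial C] (c : Fin p → C)
    (h : ∑ i, algebraMap C (DualNumber (AlphaP.A p C)) (c i) * (inl (AlphaP.x p C) + ε) ^ (i : ℕ) =
      ∑ i, algebraMap C (DualNumber (AlphaP.A p C)) (c i) * inl (AlphaP.x p C) ^ (i : ℕ))
    (i : Fin p) (hi : (i : ℕ) ≠ 0) : c i = 0 := by
  classical
  have h' : ∑ i : Fin p, ((i : ℕ) : AlphaP.A p C) * (algebraMap C (AlphaP.A p C) (c i) * AlphaP.x p C ^ ((i : ℕ) - 1)) = 0 := by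
    have := congrArg snd h
    simp only [snd_sum, TrivSqZeroExt.snd_mul, snd_pow, fst_add, snd_add, fst_inl, snd_inl, DualNumber.fst_eps, DualNumber.snd_eps,
      TrivSqZeroExt.algebraMap_eq_inl', fst_pow, smul_eq_mul, MulOpposite.op_mul, smul_zero, zero_smul,
      op_smul_eq_mul, add_zero, zero_add, mul_one, mul_zero, zero_mul] at this
    simp only [nsmul_eq_mul, mul_zero, Finset.sum_const_zero] at this
    rw [← this]
    exact Finset.sum_congr rfl fun i _ => by rw [Nat.pred_eq_sub_one]; ring
  have hlt : (i : ℕ) - 1 < p := lt_of_le_of_lt (Nat.sub_le _ _) i.2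
  let l : Fin p := ⟨(i : ℕ) - 1, hlt⟩
  have hcoef := congrArg (fun a => (AlphaP.basis p C).repr a l) h'
  simp only [map_sum, map_zero, Finsupp.zero_apply, Finset.sum_apply'] at hcoef
  rw [Finset.sum_eq_single i] at hcoef
  · rw [← map_natCast (algebraMap C (AlphaP.A p C)), ← mul_assoc, ← map_mul, ← Algebra.smul_def, map_smul,
      show AlphaP.x p C ^ ((i : ℕ) - 1) = AlphaP.basis p C l from (AlphaP.basis_apply p C l).symm,
      Module.Basis.repr_self, Finsupp.smul_apply, Finsupp.single_eq_same, smul_eq_mul, mul_one] at hcoef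
    have hu : IsUnit ((i : ℕ) : C) := by
      rw [← map_natCast (algebraMap k C)]
      refine (IsUnit.mk0 _ fun h0 => ?_).map _
      have := Nat.le_of_dvd (Nat.pos_of_ne_zero hi) ((CharP.cast_eq_zero_iff k p _).1 h0)
      omega
    exact hu.mul_right_eq_zero.1 hcoef
  · intro j _ hj
    by_cases hj0 : (j : ℕ) = 0
    · rw [hj0, Nat.cast_zero, zero_mul, map_zero, Finsupp.zero_apply]
    rw [← map_natCast (algebraMap C (AlphaP.A p C)), ← mul_assoc, ← map_mul, ← Algebra.smul_def, map_smul,
      show AlphaP.x p C ^ ((j : ℕ) - 1) = AlphaP.basis p C ⟨(j : ℕ) - 1, by omega⟩ from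
        (AlphaP.basis_apply p C ⟨(j : ℕ) - 1, by omega⟩).symm,
      Module.Basis.repr_self, Finsupp.smul_apply, Finsupp.single_eq_of_ne, smul_zero]
    intro he
    have : (i : ℕ) - 1 = (j : ℕ) - 1 := congrArg Fin.val he
    exact hj (Fin.ext (by omega))
  · simp

set_option maxHeartbeats 1000000 in
/-- A natural bimultiplicative pairing of `α_p` with values in the units, trivial on the axes and on pairs of
tangent vectors, is trivial. -/
theorem alpha_pairing_eq_one (k : Type u) [Field k] (p : ℕ) [Fact p.Prime] [CharP k p]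
    (W : ∀ (B : Type u) [CommRing B] [Algebra k B], (a b : B) → a ^ p = 0 → b ^ p = 0 → B)
    (hnat : ∀ (B B' : Type u) [CommRing B] [Algebra k B] [CommRing B'] [Algebra k B'] (h : B →ₐ[k] B')
      (a b : B) (ha : a ^ p = 0) (hb : b ^ p = 0) (ha' : h a ^ p = 0) (hb' : h b ^ p = 0),
      W B' (h a) (h b) ha' hb' = h (W B a b ha hb))
    (hl : ∀ (B : Type u) [CommRing B] [Algebra k B] (a a' b : B) (ha : a ^ p = 0) (ha' : a' ^ p = 0)
      (hb : b ^ p = 0) (h : (a + a') ^ p = 0), W B (a + a') b h hb = W B a b ha hb * W B a' b ha' hb)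
    (hr : ∀ (B : Type u) [CommRing B] [Algebra k B] (a b b' : B) (ha : a ^ p = 0) (hb : b ^ p = 0)
      (hb' : b' ^ p = 0) (h : (b + b') ^ p = 0), W B a (b + b') ha h = W B a b ha hb * W B a b' ha hb')
    (hl0 : ∀ (B : Type u) [CommRing B] [Algebra k B] (b : B) (h : (0 : B) ^ p = 0) (hb : b ^ p = 0),
      W B 0 b h hb = 1)
    (hr0 : ∀ (B : Type u) [CommRing B] [Algebra k B] (a : B) (ha : a ^ p = 0) (h : (0 : B) ^ p = 0),
      W B a 0 ha h = 1)
    (hlie : ∀ (B : Type u) [CommRing B] [Algebra k B] (a b : B) (ha : a * a = 0) (hb : b * b = 0)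
      (ha' : a ^ p = 0) (hb' : b ^ p = 0), W B a b ha' hb' = 1)
    (B : Type u) [CommRing B] [Algebra k B] (a b : B) (ha : a ^ p = 0) (hb : b ^ p = 0) : W B a b ha hb = 1 := by
  classical
  have h2 := (Fact.out : p.Prime).two_le
  let A := AlphaP.A p k
  haveI : Nontrivial A := (AlphaP.basis p k).repr.toEquiv.nontrivial
  let Bu := AlphaP.A p A
  let X : Bu := algebraMap A Bu (AlphaP.x p k)
  let Y : Bu := AlphaP.x p A
  letI : Algebra k Bu := ((algebraMap A Bu).comp (algebraMap k A)).toAlgebra
  haveI : IsScalarTower k A Bu := IsScalarTower.of_algebraMap_eq' rfl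
  have hX : X ^ p = 0 := by rw [← map_pow, AlphaP.x_pow, map_zero]
  have hY : Y ^ p = 0 := AlphaP.x_pow p A
  set f := W Bu X Y hX hY with hf
  let c : Fin p → Fin p → k := fun i j => (AlphaP.basis p k).repr ((AlphaP.basis p A).repr f j) i
  have hsq : ∀ {B : Type u} [CommRing B] {z : B}, z * z = 0 → z ^ p = 0 := fun hz =>
    pow_eq_zero_of_le h2 (by rw [pow_two, hz])
  -- universality
  have huniv : ∀ (B : Type u) [CommRing B] [Algebra k B] (a b : B) (ha : a ^ p = 0) (hb : b ^ p = 0),
      W B a b ha hb = ∑ i, ∑ j, algebraMap k B (c i j) * a ^ (i : ℕ) * b ^ (j : ℕ) := by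
    intro B _ _ a b ha hb
    letI : Algebra A B := (AlphaP.lift p k a ha).toRingHom.toAlgebra
    haveI : IsScalarTower k A B := IsScalarTower.of_algebraMap_eq fun r =>
      ((AlphaP.lift p k a ha).commutes r).symm
    let Φ : Bu →ₐ[k] B := (AlphaP.lift p A b hb).restrictScalars k
    have hΦX : Φ X = a := by
      show AlphaP.lift p A b hb (algebraMap A Bu (AlphaP.x p k)) = a
      rw [AlgHom.commutes]
      exact AlphaP.lift_x a ha
    have hΦY : Φ Y = b := AlphaP.lift_x (R := A) b hb
    have hn := hnat Bu B Φ X Y hX hY (by rw [hΦX]; exact ha) (by rw [hΦY]; exact hb)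
    simp only [hΦX, hΦY] at hn
    rw [hn, ← hf]
    conv_lhs => rw [← (AlphaP.basis p A).sum_repr f, map_sum]
    rw [Finset.sum_comm]
    refine Finset.sum_congr rfl fun j _ => ?_
    show AlphaP.lift p A b hb ((AlphaP.basis p A).repr f j • AlphaP.basis p A j) = _
    rw [map_smul, AlphaP.basis_apply, map_pow, AlphaP.lift_x, Algebra.smul_def, ← Finset.sum_mul]
    congr 1
    show AlphaP.lift p k a ha ((AlphaP.basis p A).repr f j) = _
    conv_lhs => rw [← (AlphaP.basis p k).sum_repr ((AlphaP.basis p A).repr f j)]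
    rw [map_sum]
    refine Finset.sum_congr rfl fun i _ => ?_
    rw [map_smul, AlphaP.basis_apply, map_pow, AlphaP.lift_x, Algebra.smul_def]
  let i0 : Fin p := ⟨0, by omega⟩
  let i1 : Fin p := ⟨1, by omega⟩
  have hz : ∀ {B : Type u} [CommRing B], (0 : B) ^ p = 0 := fun {B} _ => zero_pow (by omega)
  have hrepr : ∀ (d : Fin p → k) (j : Fin p),
      (AlphaP.basis p k).repr (∑ l, algebraMap k A (d l) * AlphaP.x p k ^ (l : ℕ)) j = d j := by
    intro d j
    rw [Finset.sum_congr rfl (fun l _ => show algebraMap k A (d l) * AlphaP.x p k ^ (l : ℕ) =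
      d l • AlphaP.basis p k l by rw [AlphaP.basis_apply]; exact (Algebra.smul_def _ _).symm)]
    exact congrFun ((AlphaP.basis p k).repr_sum_self d) j
  have hrow : ∀ j, c i0 j = if j = i0 then 1 else 0 := by
    intro j
    have h := huniv A 0 (AlphaP.x p k) hz (AlphaP.x_pow p k)
    rw [hl0, Finset.sum_eq_single i0 (fun i _ hi => Finset.sum_eq_zero fun j _ => by
      rw [zero_pow (fun h0 => hi (Fin.ext h0)), mul_zero, zero_mul]) (by simp)] at h
    simp only [show ((i0 : Fin p) : ℕ) = 0 from rfl, pow_zero, mul_one] at h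
    have := congrArg (fun z => (AlphaP.basis p k).repr z j) h
    simp only [hrepr] at this
    rw [← this, ← show AlphaP.basis p k i0 = 1 from (AlphaP.basis_apply p k i0).trans (pow_zero _),
      Module.Basis.repr_self, Finsupp.single_apply]
    simp only [eq_comm]
  -- the value on a tangent vector
  have heps : ∀ (B : Type u) [CommRing B] [Algebra k B] (z b : B) (hz2 : z * z = 0) (hz' : z ^ p = 0) (hb : b ^ p = 0),
      W B z b hz' hb = 1 + z * ∑ j, algebraMap k B (c i1 j) * b ^ (j : ℕ) := by
    intro B _ _ z b hz2 hz' hb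
    rw [huniv, ← Finset.add_sum_erase _ _ (Finset.mem_univ i0),
      ← Finset.add_sum_erase _ _ (Finset.mem_erase.2 ⟨show i1 ≠ i0 from fun h => by simpa [i0, i1] using congrArg Fin.val h, Finset.mem_univ _⟩)]
    rw [Finset.sum_eq_zero (s := (Finset.univ.erase i0).erase i1)]
    · rw [add_zero]
      congr 1
      · rw [Finset.sum_eq_single i0 (fun j _ hj => by rw [hrow, if_neg hj, map_zero, zero_mul, zero_mul]) (by simp),
          hrow, if_pos rfl]
        simp [i0]
      · rw [Finset.mul_sum]
        refine Finset.sum_congr rfl fun j _ => ?_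
        show _ * z ^ 1 * _ = _
        ring
    · intro i hi
      simp only [Finset.mem_erase, ne_eq] at hi
      have : 2 ≤ (i : ℕ) := by
        have h1 : (i : ℕ) ≠ 1 := fun h => hi.1 (Fin.ext h)
        have h0 : (i : ℕ) ≠ 0 := fun h => hi.2.1 (Fin.ext h)
        omega
      refine Finset.sum_eq_zero fun j _ => ?_
      rw [pow_eq_zero_of_le this (by rw [pow_two, hz2]), mul_zero, zero_mul]
  -- the derivative along the axis is additive, hence vanishes
  have hc1 : ∀ j, c i1 j = 0 := by
    have hc10 : c i1 i0 = 0 := by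
      have he : (ε : DualNumber k) * ε = 0 := DualNumber.eps_mul_eps
      have h := heps (DualNumber k) ε 0 he (hsq he) hz
      rw [hr0, Finset.sum_eq_single i0 (fun j _ hj => by rw [zero_pow (fun h0 => hj (Fin.ext h0)), mul_zero])
        (by simp)] at h
      have := congrArg snd h
      simpa [i0, TrivSqZeroExt.algebraMap_eq_inl'] using this.symm
    intro j
    by_cases hj : (j : ℕ) = 0
    · rwa [show j = i0 from Fin.ext hj]
    refine eq_zero_of_invariant k p k (fun j => c i1 j) ?_ j hj
    let D := DualNumber (AlphaP.A p k)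
    let B₂ := DualNumber D
    have he : (ε : B₂) * ε = 0 := DualNumber.eps_mul_eps
    have he' : (inl (ε : D) : B₂) * inl (ε : D) = 0 := by rw [← inl_mul, DualNumber.eps_mul_eps, inl_zero]
    have hx : (inl (inl (AlphaP.x p k) : D) : B₂) ^ p = 0 := by
      refine ((map_pow (TrivSqZeroExt.inlHom D D) (inl (AlphaP.x p k)) p).symm).trans ?_
      rw [show (inl (AlphaP.x p k) : D) ^ p = 0 from
        ((map_pow (TrivSqZeroExt.inlHom (AlphaP.A p k) (AlphaP.A p k)) (AlphaP.x p k) p).symm).trans
          (by rw [AlphaP.x_pow]; exact map_zero _)]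
      exact map_zero _
    haveI : CharP B₂ p := charP_of_injective_algebraMap (algebraMap k B₂).injective p
    have hsum : ((inl (inl (AlphaP.x p k) : D) : B₂) + inl (ε : D)) ^ p = 0 := by
      haveI : ExpChar B₂ p := ExpChar.prime Fact.out
      refine (add_pow_expChar (R := B₂) _ _ p).trans ?_
      rw [hx, zero_add]
      exact hsq (z := (inl (ε : D) : B₂)) he'
    have h := hr B₂ ε (inl (inl (AlphaP.x p k) : D)) (inl (ε : D)) (hsq he) hx (hsq he') hsum
    rw [hlie B₂ ε (inl (ε : D)) he he' (hsq he) (hsq he'), mul_one, heps _ _ _ he, heps _ _ _ he] at h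
    have hs := congrArg (TrivSqZeroExt.fstHom k D D)
      (show (inl (fst (∑ j, algebraMap k B₂ (c i1 j) * ((inl (inl (AlphaP.x p k) : D) : B₂) + inl (ε : D)) ^ (j : ℕ))) : B₂) =
        inl (fst (∑ j, algebraMap k B₂ (c i1 j) * (inl (inl (AlphaP.x p k) : D) : B₂) ^ (j : ℕ))) from
        congrArg inl (fst_eq_of_eps_mul (add_left_cancel h)))
    simp only [TrivSqZeroExt.fstHom_apply, fst_inl] at hs
    change TrivSqZeroExt.fstHom k D D _ = TrivSqZeroExt.fstHom k D D _ at hs
    simp only [map_sum, map_mul, map_pow, map_add, AlgHom.commutes, TrivSqZeroExt.fstHom_apply, fst_inl] at hs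
    exact hs
  -- invariance in the first variable
  have hcz : ∀ (i j : Fin p), (i : ℕ) ≠ 0 → c i j = 0 := by
    intro i j hi
    have hC := eq_zero_of_invariant k p A (fun i => ∑ j, algebraMap k A (c i j) * AlphaP.x p k ^ (j : ℕ)) ?_ i hi
    · have := congrArg (fun z => (AlphaP.basis p k).repr z j) hC
      simpa only [hrepr, map_zero, Finsupp.zero_apply] using this
    haveI : Nontrivial Bu := (AlphaP.basis p A).repr.toEquiv.nontrivial
    let B₁ := DualNumber Bu
    haveI : CharP B₁ p := charP_of_injective_algebraMap (algebraMap k B₁).injective p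
    haveI : ExpChar B₁ p := ExpChar.prime Fact.out
    have he : (ε : B₁) * ε = 0 := DualNumber.eps_mul_eps
    have ha : (inl (AlphaP.x p A) : B₁) ^ p = 0 :=
      ((map_pow (TrivSqZeroExt.inlHom Bu Bu) (AlphaP.x p A) p).symm).trans
        (by rw [AlphaP.x_pow]; exact map_zero _)
    have hb : (inl (algebraMap A Bu (AlphaP.x p k)) : B₁) ^ p = 0 :=
      ((map_pow (TrivSqZeroExt.inlHom Bu Bu) (algebraMap A Bu (AlphaP.x p k)) p).symm).trans
        (by rw [← map_pow, AlphaP.x_pow, map_zero]; exact map_zero _)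
    have h := hl B₁ (inl (AlphaP.x p A)) ε (inl (algebraMap A Bu (AlphaP.x p k))) ha (hsq he) hb
      ((add_pow_expChar _ _ _).trans (by rw [ha, hsq he, add_zero]))
    rw [heps B₁ ε (inl (algebraMap A Bu (AlphaP.x p k))) he (hsq he) hb,
      Finset.sum_eq_zero (fun j _ => by rw [hc1, map_zero, zero_mul])] at h
    simp only [mul_zero, add_zero, mul_one] at h
    replace h := (huniv B₁ _ _ _ _).symm.trans (h.trans (huniv B₁ _ _ _ _))
    convert h using 1 <;>
    · refine Finset.sum_congr rfl fun i _ => ?_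
      rw [map_sum, Finset.sum_mul]
      refine Finset.sum_congr rfl fun j _ => ?_
      rw [map_mul, map_pow, ← IsScalarTower.algebraMap_apply k A B₁, mul_right_comm]
      rfl
  rw [huniv, Finset.sum_eq_single i0 (fun i _ hi => Finset.sum_eq_zero fun j _ => by
    rw [hcz i j (fun h => hi (Fin.ext h)), map_zero, zero_mul, zero_mul]) (by simp),
    Finset.sum_eq_single i0 (fun j _ hj => by rw [hrow, if_neg hj, map_zero, zero_mul, zero_mul]) (by simp),
    hrow, if_pos rfl]
  simp [i0]

end Groth.Agent.PrimeExt15
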