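import Mathlib.RingTheory.Bialgebra.Basic
import Mathlib.RingTheory.HopfAlgebra.Convolution
import Mathlib.RingTheory.TensorProduct.Basic
import Mathlib.LinearAlgebra.FiniteDimensional.Basic
import Mathlib.LinearAlgebra.TensorProduct.Basis
import Mathlib.Tactic

/-! # Pairings of finite groups with a cyclic group of points -/

set_option autoImplicit false
set_option linter.style.haveILetI false
universe u

open TensorProduct WithConv

namespace Groth.Agent.PrimeExt15

theorem tensor_eq_zero_of_points {k : Type u} [Field k] {A : Type u} [CommRing A] [Algebra k A] {n : ℕ}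
    (g : Fin n → (A →ₐ[k] k)) (hbij : Function.Bijective (LinearMap.pi fun i => (g i).toLinearMap))
    (t : A ⊗[k] A)
    (h : ∀ i j, Algebra.TensorProduct.lift (g i) (g j) (fun _ _ => .all _ _) t = 0) : t = 0 := by
  classical
  let b : Module.Basis (Fin n) k A :=
    (Pi.basisFun k (Fin n)).map (LinearEquiv.ofBijective _ hbij).symm
  have hb : ∀ i l, g i (b l) = if i = l then 1 else 0 := by
    intro i l
    have := congrFun ((LinearEquiv.ofBijective _ hbij).apply_symm_apply (Pi.basisFun k (Fin n) l)) i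
    simp only [Pi.basisFun_apply, Pi.single_apply] at this
    show g i ((LinearEquiv.ofBijective _ hbij).symm (Pi.basisFun k (Fin n) l)) = _
    rw [Pi.basisFun_apply]
    exact this
  refine (b.tensorProduct b).ext_elem fun ⟨i, j⟩ => ?_
  rw [map_zero, Finsupp.zero_apply, ← h i j]
  conv_rhs => rw [← (b.tensorProduct b).sum_repr t]
  simp only [map_sum, map_smul, Module.Basis.tensorProduct_apply, Algebra.TensorProduct.lift_tmul, hb]
  simp [Fintype.sum_prod_type, Finset.sum_ite_eq, hb]

/-- A natural bimultiplicative alternating pairing is trivial when the group is given by a cyclic group of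
points. -/
theorem points_pairing_eq_one {k : Type u} [Field k] {A : Type u} [CommRing A] [HopfAlgebra k A]
    {n : ℕ} (g : WithConv (A →ₐ[k] k))
    (hbij : Function.Bijective (LinearMap.pi fun i : Fin n => (g ^ (i : ℕ)).ofConv.toLinearMap))
    (W : ∀ (B : Type u) [CommRing B] [Algebra k B], WithConv (A →ₐ[k] B) → WithConv (A →ₐ[k] B) → B)
    (hnat : ∀ (B B' : Type u) [CommRing B] [Algebra k B] [CommRing B'] [Algebra k B'] (h : B →ₐ[k] B')
      (χ ψ : WithConv (A →ₐ[k] B)), W B' (toConv (h.comp χ.ofConv)) (toConv (h.comp ψ.ofConv)) = h (W B χ ψ))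
    (hl : ∀ (B : Type u) [CommRing B] [Algebra k B] (χ χ' ψ : WithConv (A →ₐ[k] B)),
      W B (χ * χ') ψ = W B χ ψ * W B χ' ψ)
    (hr : ∀ (B : Type u) [CommRing B] [Algebra k B] (χ ψ ψ' : WithConv (A →ₐ[k] B)),
      W B χ (ψ * ψ') = W B χ ψ * W B χ ψ')
    (hl1 : ∀ (B : Type u) [CommRing B] [Algebra k B] (ψ : WithConv (A →ₐ[k] B)), W B 1 ψ = 1)
    (hr1 : ∀ (B : Type u) [CommRing B] [Algebra k B] (χ : WithConv (A →ₐ[k] B)), W B χ 1 = 1)
    (halt : ∀ (B : Type u) [CommRing B] [Algebra k B] (χ : WithConv (A →ₐ[k] B)), W B χ χ = 1)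
    (B : Type u) [CommRing B] [Algebra k B] (χ ψ : WithConv (A →ₐ[k] B)) : W B χ ψ = 1 := by
  classical
  set f := W (A ⊗[k] A) (toConv Algebra.TensorProduct.includeLeft) (toConv Algebra.TensorProduct.includeRight)
    with hf
  have huniv : ∀ (B : Type u) [CommRing B] [Algebra k B] (χ ψ : WithConv (A →ₐ[k] B)),
      W B χ ψ = Algebra.TensorProduct.lift χ.ofConv ψ.ofConv (fun _ _ => .all _ _) f := by
    intro B _ _ χ ψ
    rw [hf, ← hnat]
    congr 1 <;>
      (refine WithConv.ofConv_injective ?_; ext a; simp)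
  have hgg : ∀ i j : ℕ, W k (g ^ i) (g ^ j) = 1 := by
    intro i j
    have h1 : ∀ j, W k g (g ^ j) = 1 := by
      intro j
      induction j with
      | zero => rw [pow_zero, hr1]
      | succ j ih => rw [pow_succ, hr, ih, halt, one_mul]
    induction i with
    | zero => rw [pow_zero, hl1]
    | succ i ih => rw [pow_succ, hl, ih, h1, one_mul]
  have : f - 1 = 0 := tensor_eq_zero_of_points (fun i : Fin n => (g ^ (i : ℕ)).ofConv) hbij _ fun i j => by
    rw [map_sub, map_one, ← huniv, hgg, sub_self]
  rw [huniv, sub_eq_zero.1 this, map_one]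

end Groth.Agent.PrimeExt15
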