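import Groth.Agent.Lib.PrimeExt15.Section
import Groth.Agent.Lib.PrimeExt15.Alpha
import Groth.Agent.Lib.PrimeExt15.Points
import Groth.Agent.Lib.MuExt15.Alg
import Groth.Agent.Lib.CentExt24.Basic
import Groth.Agent.Lib.TorPts21.Torus
import Groth.Agent.Lib.GrassAct21.Embed
import Groth.Agent.Lib.HopfPts19.Scheme
import Groth.Agent.Lib.OT.Classify

/-! # Central extensions of groups of prime order by `𝔾_m` over an algebraically closed field -/

set_option autoImplicit false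
set_option linter.style.haveILetI false
set_option backward.isDefEq.respectTransparency.types false

universe u

open CategoryTheory CategoryTheory.Limits MonoidalCategory CartesianMonoidalCategory MonObj AlgebraicGeometry
open WithConv

noncomputable section

namespace Groth.Agent.PrimeExt15

open DiagGL

variable {k : Type u} [Field k] [IsAlgClosed k] {G K : Over (Spec (CommRingCat.of k))} [GrpObj G] [GrpObj K]
  {u : Red.Gm (Spec (CommRingCat.of k)) ⟶ G} {v : G ⟶ K}

theorem comm_gm {T : Over (Spec (CommRingCat.of k))} (x y : T ⟶ Red.Gm (Spec (CommRingCat.of k))) :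
    x * y = y * x :=
  (TorPts21.commute_of_chars gmChars x y).eq

/-- A central extension by `𝔾_m` of a finite discrete base has a normalised section. -/
theorem exists_section (hex : NonAbH1.IsExactSeq Scheme.fppfPrecoverage u v)
    (hcentral : ∀ (T : Over (Spec (CommRingCat.of k))) (g : T ⟶ G) (t : T ⟶ Red.Gm (Spec (CommRingCat.of k))),
      g * (t ≫ u) = (t ≫ u) * g)
    [DiscreteTopology K.left] : ∃ s : K ⟶ G, s ≫ v = 𝟙 K ∧ η[K] ≫ s = η[G] := by
  haveI := hex.1
  haveI := hex.2.1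
  haveI : IsAffine (Red.Gm (Spec (CommRingCat.of k))).left := TorPts21.isAffine_of_chars gmChars
  let Gm := Red.Gm (Spec (CommRingCat.of k))
  let a : AlgGrp.Action Gm G :=
    { act := (fst Gm G ≫ u) * snd Gm G
      one_act := by
        rw [MonObj.comp_mul, whiskerRight_fst_assoc, whiskerRight_snd, IsMonHom.one_hom, ← leftUnitor_hom]
        rw [show fst (𝟙_ (Over (Spec (CommRingCat.of k)))) G ≫ η[G] = 1 by
          rw [Hom.one_def, toUnit_unique (fst _ G) (toUnit _)], _root_.one_mul]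
      mul_act := by
        simp only [MonObj.comp_mul, whiskerRight_fst_assoc, whiskerRight_snd, whiskerLeft_fst_assoc,
          whiskerLeft_snd_assoc, associator_hom_fst_assoc, associator_hom_snd_fst_assoc,
          associator_hom_snd_snd, whiskerLeft_snd, Category.assoc]
        rw [← Category.assoc _ μ[Gm] u, show fst (Gm ⊗ Gm) G ≫ μ[Gm] = (fst _ G ≫ fst Gm Gm) * (fst _ G ≫ snd Gm Gm) by
          rw [← MonObj.comp_mul, Hom.mul_def, lift_fst_snd, Category.id_comp], MonObj.mul_comp,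
          Category.assoc, Category.assoc, _root_.mul_assoc] }
  have hact : ∀ {T : Over (Spec (CommRingCat.of k))} (t : T ⟶ Gm) (y : T ⟶ G),
      lift t y ≫ a.act = (t ≫ u) * y := fun t y => by
    show lift t y ≫ ((fst Gm G ≫ u) * snd Gm G) = _
    rw [MonObj.comp_mul, lift_fst_assoc, lift_snd]
  have huv : ∀ {T : Over (Spec (CommRingCat.of k))} (t : T ⟶ Gm), (t ≫ u) ≫ v = 1 := fun t => by
    rw [Category.assoc, hex.2.2.1, MonObj.comp_one]
  have hcart : IsPullback a.act (snd Gm G) v v := by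
    refine IsPullback.mk' ?_ (fun T φ φ' e1 e2 => ?_) fun T x y e => ?_
    · show ((fst Gm G ≫ u) * snd Gm G) ≫ v = _
      rw [MonObj.mul_comp, huv, _root_.one_mul]
    · obtain ⟨t, y, rfl⟩ : ∃ t y, φ = lift t y := ⟨_, _, (lift_comp_fst_snd φ).symm⟩
      obtain ⟨t', y', rfl⟩ : ∃ t y, φ' = lift t y := ⟨_, _, (lift_comp_fst_snd φ').symm⟩
      rw [lift_snd, lift_snd] at e2
      subst e2
      rw [hact, hact] at e1
      rw [CentExt24.cancel_u hex (mul_right_cancel e1)]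
    · obtain ⟨t, ht, -⟩ := CentExt24.existsUnique_mul hex y x e.symm
      exact ⟨lift t y, by rw [hact, ← hcentral, ht], lift_snd _ _⟩
  have hfpqc : NonAbH1.IsLocallyTrivialFor Scheme.fpqcPrecoverage (Over.mk v.left : Over K.left) := by
    obtain ⟨R, hR, hs⟩ := hex.2.2.2.2
    exact ⟨R, Scheme.fppfPrecoverage_le_fpqcPrecoverage _ hR, hs⟩
  obtain ⟨s, hs⟩ := exists_section_of_discrete v.left (SolvSpec15.special_of_chars gmChars G K a v hcart hfpqc)
  let s₀ : K ⟶ G := Over.homMk s (by rw [← Over.w v, ← Category.assoc, hs, Category.id_comp])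
  have hs₀ : s₀ ≫ v = 𝟙 K := Over.OverMorphism.ext hs
  refine ⟨s₀ * (toUnit K ≫ η[K] ≫ s₀)⁻¹, ?_, ?_⟩
  · rw [MonObj.mul_comp, GrpObj.inv_comp, Category.assoc, Category.assoc, hs₀, Category.comp_id,
      ← Hom.one_def, inv_one, _root_.mul_one]
  · rw [MonObj.comp_mul, GrpObj.comp_inv, ← Category.assoc η[K], toUnit_unique (η[K] ≫ toUnit K) (𝟙 _),
      Category.id_comp, mul_inv_cancel, Hom.one_def, toUnit_unique (toUnit _) (𝟙 _), Category.id_comp]

theorem isAffine_and_lft (hex : NonAbH1.IsExactSeq Scheme.fppfPrecoverage u v) (s : K ⟶ G) (hs : s ≫ v = 𝟙 K)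
    [IsAffine K.left] [LocallyOfFiniteType K.hom] : IsAffine G.left ∧ LocallyOfFiniteType G.hom := by
  haveI := hex.1
  haveI := hex.2.1
  let Gm := Red.Gm (Spec (CommRingCat.of k))
  haveI : IsAffine Gm.left := TorPts21.isAffine_of_chars gmChars
  haveI : Smooth Gm.hom := TorPts21.smooth_of_chars gmChars
  let Φ : Gm ⊗ K ⟶ G := (snd Gm K ≫ s) * (fst Gm K ≫ u)
  obtain ⟨w, hw, -⟩ := CentExt24.existsUnique_mul hex (v ≫ s) (𝟙 G)
    (by rw [Category.assoc, hs, Category.comp_id, Category.id_comp])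
  have hΦ : ∀ {T : Over (Spec (CommRingCat.of k))} (t : T ⟶ Gm) (y : T ⟶ K),
      lift t y ≫ Φ = (y ≫ s) * (t ≫ u) := fun t y => by
    show lift t y ≫ ((snd Gm K ≫ s) * (fst Gm K ≫ u)) = _
    rw [MonObj.comp_mul, lift_fst_assoc, lift_snd_assoc]
  have h1 : lift w v ≫ Φ = 𝟙 G := by rw [hΦ, hw]
  have h2 : Φ ≫ lift w v = 𝟙 _ := by
    have e1 : Φ ≫ v = snd Gm K := by
      show ((snd Gm K ≫ s) * (fst Gm K ≫ u)) ≫ v = _
      rw [MonObj.mul_comp, Category.assoc, Category.assoc, hs, hex.2.2.1, Category.comp_id, MonObj.comp_one,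
        _root_.mul_one]
    have e2 : Φ ≫ w = fst Gm K := by
      refine CentExt24.cancel_u hex (mul_left_cancel (a := snd Gm K ≫ s) ?_)
      have := congrArg (Φ ≫ ·) hw
      simp only [MonObj.comp_mul, Category.comp_id, ← Category.assoc, e1] at this
      exact this
    refine CartesianMonoidalCategory.hom_ext _ _ ?_ ?_
    · rw [Category.assoc, lift_fst, e2, Category.id_comp]
    · rw [Category.assoc, lift_snd, e1, Category.id_comp]
  haveI : IsAffine (Gm ⊗ K).left := inferInstanceAs (IsAffine (pullback Gm.hom K.hom))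
  haveI : LocallyOfFiniteType (Gm ⊗ K).hom :=
    inferInstanceAs (LocallyOfFiniteType (pullback.fst Gm.hom K.hom ≫ Gm.hom))
  haveI : IsIso (lift w v) := ⟨Φ, h1, h2⟩
  haveI : IsIso (lift w v).left :=
    inferInstanceAs (IsIso ((Over.forget (Spec (CommRingCat.of k))).map (lift w v)))
  refine ⟨IsAffine.of_isIso (lift w v).left, ?_⟩
  rw [← Over.w (lift w v)]
  infer_instance

theorem pt_mul {A : Type u} [CommRing A] [Bialgebra k A] {B : Type u} [CommRing B] [Algebra k B]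
    (χ ψ : WithConv (A →ₐ[k] B)) :
    CoactBr.pt (χ * ψ).ofConv = CoactBr.pt χ.ofConv * CoactBr.pt (K := B) ψ.ofConv :=
  map_mul Spec.mapMulEquiv χ ψ

theorem pt_one {A : Type u} [CommRing A] [Bialgebra k A] {B : Type u} [CommRing B] [Algebra k B] :
    CoactBr.pt (K := B) (1 : WithConv (A →ₐ[k] B)).ofConv = (1 : _ ⟶ CoactBr.sp k A) :=
  map_one Spec.mapMulEquiv

/-- Images of one tangent vector at the origin commute in an affine group. -/
theorem commute_tangent [IsAffine G.left] [LocallyOfFiniteType G.hom]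
    (z : CoactBr.sp k (DualNumber k) ⟶ G)
    (hz : CoactBr.pt (TrivSqZeroExt.fstHom k k k) ≫ z = 1) {B : Type u} [CommRing B] [Algebra k B]
    (h₁ h₂ : DualNumber k →ₐ[k] B) : Commute (CoactBr.pt h₁ ≫ z) (CoactBr.pt h₂ ≫ z) := by
  obtain ⟨n, r, hr, hrc⟩ := GrassAct21.exists_embedding_GL G
  haveI := hr
  haveI := hrc
  haveI : Mono r := Over.mono_of_mono_left r
  let V : Matrix (Fin n) (Fin n) (DualNumber k) := (mat (z ≫ r)).map (Scheme.ΓSpecIso (CommRingCat.of (DualNumber k))).hom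
  have hV : ∀ {B' : Type u} [CommRing B'] [Algebra k B'] (h : DualNumber k →ₐ[k] B'),
      mat ((CoactBr.pt h ≫ z) ≫ r) = V.map (fun a => (Scheme.ΓSpecIso (CommRingCat.of B')).inv (h a)) := by
    intro B' _ _ h
    rw [Category.assoc, mat_comp]
    ext i j
    show (CoactBr.pt h).left.appTop (mat (z ≫ r) i j) =
      (Scheme.ΓSpecIso (CommRingCat.of B')).inv (h ((Scheme.ΓSpecIso (CommRingCat.of (DualNumber k))).hom (mat (z ≫ r) i j)))
    have h' := ConcreteCategory.congr_hom (Scheme.ΓSpecIso_inv_naturality (CommRingCat.ofHom h.toRingHom))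
      ((Scheme.ΓSpecIso (CommRingCat.of (DualNumber k))).hom (mat (z ≫ r) i j))
    refine Eq.trans ?_ h'.symm
    exact congrArg (CoactBr.pt h).left.appTop
      (ConcreteCategory.congr_hom (Iso.hom_inv_id (Scheme.ΓSpecIso (CommRingCat.of (DualNumber k)))) _).symm
  have h0 : V.map (TrivSqZeroExt.fstHom k k k) = 1 := by
    have h := hV (TrivSqZeroExt.fstHom k k k)
    rw [hz, MonObj.one_comp, mat_one] at h
    ext i j
    have h' := congrFun (congrFun h i) j
    apply (Scheme.ΓSpecIso (CommRingCat.of k)).commRingCatIsoToRingEquiv.symm.injective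
    refine Eq.trans h'.symm ?_
    by_cases hij : i = j <;> simp [Matrix.one_apply, hij] <;> rfl
  let N : Matrix (Fin n) (Fin n) k := Matrix.of fun i j => TrivSqZeroExt.snd (V i j)
  have hVN : ∀ {B' : Type u} [CommRing B'] [Algebra k B'] (h : DualNumber k →ₐ[k] B'),
      V.map (fun a => h a) = 1 + h DualNumber.eps • N.map (algebraMap k B') := by
    intro B' _ _ h
    ext i j
    have hij : V i j = algebraMap k (DualNumber k) (TrivSqZeroExt.fst (V i j)) + algebraMap k (DualNumber k) (N i j) * DualNumber.eps := by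
      refine TrivSqZeroExt.ext ?_ ?_ <;> simp [N, TrivSqZeroExt.algebraMap_eq_inl']
    show h (V i j) = _
    rw [hij, map_add, map_mul, AlgHom.commutes, AlgHom.commutes,
      show TrivSqZeroExt.fst (V i j) = (1 : Matrix (Fin n) (Fin n) k) i j from congrFun (congrFun h0 i) j]
    simp only [Matrix.one_apply, Matrix.add_apply, Matrix.smul_apply, Matrix.map_apply, smul_eq_mul, mul_comm]
    split_ifs <;> simp
  refine (cancel_mono r).1 (mat_injective ?_)
  rw [MonObj.mul_comp, MonObj.mul_comp, mat_mul, mat_mul, hV, hV]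
  let φ := (Scheme.ΓSpecIso (CommRingCat.of B)).inv.hom
  show V.map (φ ∘ h₁) * V.map (φ ∘ h₂) = V.map (φ ∘ h₂) * V.map (φ ∘ h₁)
  rw [← Matrix.map_map, ← Matrix.map_map, ← Matrix.map_mul, ← Matrix.map_mul]
  congr 1
  rw [show V.map ⇑h₁ = V.map (fun a => h₁ a) from rfl, show V.map ⇑h₂ = V.map (fun a => h₂ a) from rfl,
    hVN, hVN]
  simp only [add_mul, mul_add, _root_.one_mul, _root_.mul_one, smul_mul_assoc, mul_smul_comm, smul_add,
    smul_smul, mul_comm (h₂ DualNumber.eps)]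
  abel

theorem conv_comp {A H B : Type u} [CommRing A] [Bialgebra k A] [CommRing H] [Bialgebra k H] [CommRing B]
    [Algebra k B] (f : A →ₐc[k] H) (φ ψ : WithConv (H →ₐ[k] B)) :
    toConv ((φ * ψ).ofConv.comp (f : A →ₐ[k] H)) =
      toConv (φ.ofConv.comp (f : A →ₐ[k] H)) * toConv (ψ.ofConv.comp (f : A →ₐ[k] H)) :=
  WithConv.ofConv_injective (AlgHom.convMul_comp_bialgHom_distrib φ ψ f)

set_option maxHeartbeats 1000000 in
theorem mu_case {A : Type u} [CommRing A] [HopfAlgebra k A] {ℓ : ℕ} [Fact ℓ.Prime]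
    (e : A ≃ₐc[k] MonoidAlgebra k (Multiplicative (ZMod ℓ)))
    (W : ∀ (B : Type u) [CommRing B] [Algebra k B], WithConv (A →ₐ[k] B) → WithConv (A →ₐ[k] B) → B)
    (wnat : ∀ (B B' : Type u) [CommRing B] [Algebra k B] [CommRing B'] [Algebra k B'] (h : B →ₐ[k] B')
      (χ ψ : WithConv (A →ₐ[k] B)),
      W B' (toConv (h.comp χ.ofConv)) (toConv (h.comp ψ.ofConv)) = h (W B χ ψ))
    (wl : ∀ (B : Type u) [CommRing B] [Algebra k B] (χ χ' ψ : WithConv (A →ₐ[k] B)),
      W B (χ * χ') ψ = W B χ ψ * W B χ' ψ)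
    (wr : ∀ (B : Type u) [CommRing B] [Algebra k B] (χ ψ ψ' : WithConv (A →ₐ[k] B)),
      W B χ (ψ * ψ') = W B χ ψ * W B χ ψ')
    (wl1 : ∀ (B : Type u) [CommRing B] [Algebra k B] (ψ : WithConv (A →ₐ[k] B)), W B 1 ψ = 1)
    (wr1 : ∀ (B : Type u) [CommRing B] [Algebra k B] (χ : WithConv (A →ₐ[k] B)), W B χ 1 = 1)
    (walt : ∀ (B : Type u) [CommRing B] [Algebra k B] (χ : WithConv (A →ₐ[k] B)), W B χ χ = 1)
    (B : Type u) [CommRing B] [Algebra k B] (χ ψ : WithConv (A →ₐ[k] B)) : W B χ ψ = 1 := by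
  let M₁ := Multiplicative (ZMod ℓ)
  let f : A →ₐc[k] MonoidAlgebra k M₁ := e
  let T : ∀ (B : Type u) [CommRing B] [Algebra k B], (M₁ →* B) → WithConv (A →ₐ[k] B) := fun B _ _ χ =>
    toConv ((MonoidAlgebra.lift k B M₁ χ).comp (f : A →ₐ[k] MonoidAlgebra k M₁))
  have hT : ∀ (B : Type u) [CommRing B] [Algebra k B] (χ ψ : M₁ →* B), T B (χ * ψ) = T B χ * T B ψ := by
    intro B _ _ χ ψ
    have key : MonoidAlgebra.lift k B M₁ (χ * ψ) =
        (toConv (MonoidAlgebra.lift k B M₁ χ) * toConv (MonoidAlgebra.lift k B M₁ ψ)).ofConv := by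
      refine MonoidAlgebra.algHom_ext (fun z => ?_) (Subsingleton.elim _ _)
      simp [AlgHom.convMul_apply]
    show toConv ((MonoidAlgebra.lift k B M₁ (χ * ψ)).comp (f : A →ₐ[k] MonoidAlgebra k M₁)) = _
    rw [key]
    exact conv_comp f _ _
  have hT1 : ∀ (B : Type u) [CommRing B] [Algebra k B], T B 1 = 1 := by
    intro B _ _
    have h := hT B 1 1
    rw [_root_.one_mul] at h
    exact left_eq_mul.1 h
  haveI : NeZero ℓ := ⟨(Fact.out : ℓ.Prime).ne_zero⟩
  haveI : IsAlgClosed (IsLocalRing.ResidueField k) := IsAlgClosed.of_ringEquiv k _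
    (RingEquiv.ofBijective (IsLocalRing.residue k) ⟨(IsLocalRing.residue k).injective,
      IsLocalRing.residue_surjective⟩)
  have key : ∀ (B : Type u) [CommRing B] [Algebra k B] (a b : M₁ →* B), W B (T B a) (T B b) = 1 := by
    refine MuExt15.pairing_eq_one (fun B _ _ a b => W B (T B a) (T B b)) ?_ ?_ ?_ ?_ ?_ ?_
    · intro B B' _ _ _ _ h a b
      rw [← wnat]
      congr 1 <;>
      · refine WithConv.ofConv_injective ?_
        simp only [T, ofConv_toConv, ← AlgHom.comp_assoc]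
        congr 1
        exact MonoidAlgebra.algHom_ext (fun z => by simp) (Subsingleton.elim _ _)
    · intro B _ _ a a' b; simp only [hT, wl]
    · intro B _ _ a b b'; simp only [hT, wr]
    · intro B _ _ b; simp only [hT1, wl1]
    · intro B _ _ a; simp only [hT1, wr1]
    · intro B _ _ a; exact walt B _
  have hsurj : ∀ χ : WithConv (A →ₐ[k] B), ∃ a, T B a = χ := fun χ =>
    ⟨(MonoidAlgebra.lift k B M₁).symm (χ.ofConv.comp (e.symm : MonoidAlgebra k M₁ →ₐc[k] A)),
      WithConv.ofConv_injective (AlgHom.ext fun a => by simp [T, f])⟩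
  obtain ⟨a, rfl⟩ := hsurj χ
  obtain ⟨b, rfl⟩ := hsurj ψ
  exact key B a b

set_option maxHeartbeats 1000000 in
theorem alpha_case {A : Type u} [CommRing A] [HopfAlgebra k A] {ℓ : ℕ} [Fact ℓ.Prime] [CharP k ℓ]
    (e : A ≃ₐc[k] AlphaP.A ℓ k)
    (W : ∀ (B : Type u) [CommRing B] [Algebra k B], WithConv (A →ₐ[k] B) → WithConv (A →ₐ[k] B) → B)
    (wnat : ∀ (B B' : Type u) [CommRing B] [Algebra k B] [CommRing B'] [Algebra k B'] (h : B →ₐ[k] B')
      (χ ψ : WithConv (A →ₐ[k] B)),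
      W B' (toConv (h.comp χ.ofConv)) (toConv (h.comp ψ.ofConv)) = h (W B χ ψ))
    (wl : ∀ (B : Type u) [CommRing B] [Algebra k B] (χ χ' ψ : WithConv (A →ₐ[k] B)),
      W B (χ * χ') ψ = W B χ ψ * W B χ' ψ)
    (wr : ∀ (B : Type u) [CommRing B] [Algebra k B] (χ ψ ψ' : WithConv (A →ₐ[k] B)),
      W B χ (ψ * ψ') = W B χ ψ * W B χ ψ')
    (wl1 : ∀ (B : Type u) [CommRing B] [Algebra k B] (ψ : WithConv (A →ₐ[k] B)), W B 1 ψ = 1)
    (wr1 : ∀ (B : Type u) [CommRing B] [Algebra k B] (χ : WithConv (A →ₐ[k] B)), W B χ 1 = 1)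
    (wlie : ∀ (B : Type u) [CommRing B] [Algebra k B] (D : A →ₐ[k] DualNumber k)
      (_ : toConv ((TrivSqZeroExt.fstHom k k k).comp D) = 1) (h₁ h₂ : DualNumber k →ₐ[k] B),
      W B (toConv (h₁.comp D)) (toConv (h₂.comp D)) = 1)
    (B : Type u) [CommRing B] [Algebra k B] (χ ψ : WithConv (A →ₐ[k] B)) : W B χ ψ = 1 := by
  let f : A →ₐc[k] AlphaP.A ℓ k := e
  let T : ∀ (B : Type u) [CommRing B] [Algebra k B] (b : B), b ^ ℓ = 0 → WithConv (A →ₐ[k] B) :=
    fun B _ _ b hb => toConv ((AlphaP.lift ℓ k b hb).comp (f : A →ₐ[k] AlphaP.A ℓ k))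
  have hT : ∀ (B : Type u) [CommRing B] [Algebra k B] (a b : B) (ha : a ^ ℓ = 0) (hb : b ^ ℓ = 0)
      (h : (a + b) ^ ℓ = 0), T B (a + b) h = T B a ha * T B b hb := by
    intro B _ _ a b ha hb h
    have key : AlphaP.lift ℓ k (a + b) h =
        (toConv (AlphaP.lift ℓ k a ha) * toConv (AlphaP.lift ℓ k b hb)).ofConv := by
      refine AlphaP.algHom_ext ?_
      simp [AlgHom.convMul_apply]
    show toConv ((AlphaP.lift ℓ k (a + b) h).comp (f : A →ₐ[k] AlphaP.A ℓ k)) = _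
    rw [key]
    exact conv_comp f _ _
  have hT0 : ∀ (B : Type u) [CommRing B] [Algebra k B] (h : (0 : B) ^ ℓ = 0), T B 0 h = 1 := by
    intro B _ _ h
    have h' := hT B 0 0 h h (by rw [add_zero]; exact h)
    simp only [add_zero] at h'
    exact left_eq_mul.1 h'
  have key : ∀ (B : Type u) [CommRing B] [Algebra k B] (a b : B) (ha : a ^ ℓ = 0) (hb : b ^ ℓ = 0),
      W B (T B a ha) (T B b hb) = 1 := by
    refine alpha_pairing_eq_one k ℓ (fun B _ _ a b ha hb => W B (T B a ha) (T B b hb)) ?_ ?_ ?_ ?_ ?_ ?_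
    · intro B B' _ _ _ _ h a b ha hb ha' hb'
      rw [← wnat]
      congr 1 <;>
      · refine WithConv.ofConv_injective ?_
        simp only [T, ofConv_toConv, ← AlgHom.comp_assoc]
        congr 1
        exact AlphaP.algHom_ext (by simp)
    · intro B _ _ a a' b ha ha' hb h
      show W B (T B (a + a') h) _ = _
      rw [hT B a a' ha ha', wl]
    · intro B _ _ a b b' ha hb hb' h
      show W B _ (T B (b + b') h) = _
      rw [hT B b b' hb hb', wr]
    · intro B _ _ b h hb; simp only [hT0, wl1]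
    · intro B _ _ a ha h; simp only [hT0, wr1]
    · intro B _ _ a b ha hb ha' hb'
      have he : (DualNumber.eps : DualNumber k) ^ ℓ = 0 :=
        pow_eq_zero_of_le (Fact.out : ℓ.Prime).two_le (by rw [pow_two]; exact DualNumber.eps_mul_eps)
      let D : A →ₐ[k] DualNumber k :=
        (AlphaP.lift ℓ k DualNumber.eps he).comp (f : A →ₐ[k] AlphaP.A ℓ k)
      have hD : toConv ((TrivSqZeroExt.fstHom k k k).comp D) = 1 := by
        have h0 : (0 : k) ^ ℓ = 0 := zero_pow (Fact.out : ℓ.Prime).ne_zero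
        rw [← hT0 k h0]
        refine congrArg toConv ?_
        rw [← AlgHom.comp_assoc]
        congr 1
        exact AlphaP.algHom_ext (by simp)
      have hval : ∀ (z : B) (hz : z * z = 0) (hz' : z ^ ℓ = 0), ∃ f : DualNumber k →ₐ[k] B,
          T B z hz' = toConv (f.comp D) := by
        intro z hz hz'
        let g : DualNumber k →ₐ[k] B := DualNumber.lift ⟨(Algebra.ofId k B, z), hz, fun _ => Commute.all _ _⟩
        refine ⟨g, congrArg toConv ?_⟩
        rw [← AlgHom.comp_assoc]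
        congr 1
        refine AlphaP.algHom_ext ?_
        simp [g]
      obtain ⟨f₁, hf₁⟩ := hval a ha ha'
      obtain ⟨f₂, hf₂⟩ := hval b hb hb'
      show W B (T B a ha') (T B b hb') = 1
      rw [hf₁, hf₂]
      exact wlie B D hD f₁ f₂
  have hsurj : ∀ χ : WithConv (A →ₐ[k] B), ∃ a ha, T B a ha = χ := fun χ =>
    ⟨χ.ofConv (e.symm (AlphaP.x ℓ k)), by rw [← map_pow, ← map_pow, AlphaP.x_pow, map_zero, map_zero],
      WithConv.ofConv_injective (AlgHom.ext fun a => by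
        obtain ⟨b, rfl⟩ := (e : A ≃ₐc[k] AlphaP.A ℓ k).symm.surjective a
        simp only [T, ofConv_toConv, AlgHom.comp_apply]
        refine (DFunLike.congr_fun (AlphaP.algHom_ext (g := χ.ofConv.comp
          (e.symm : AlphaP.A ℓ k →ₐc[k] A)) ?_) _).trans ?_
        · simp
        · simp [f])⟩
  obtain ⟨a, ha, rfl⟩ := hsurj χ
  obtain ⟨b, hb, rfl⟩ := hsurj ψ
  exact key B a b ha hb


set_option maxHeartbeats 2000000 in
/-- A central extension of a group of prime order by `𝔾_m` is commutative. -/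
theorem comm_of_prime_order [IsCommMonObj K] (hex : NonAbH1.IsExactSeq Scheme.fppfPrecoverage u v)
    (hcentral : ∀ (T : Over (Spec (CommRingCat.of k))) (g : T ⟶ G) (t : T ⟶ Red.Gm (Spec (CommRingCat.of k))),
      g * (t ≫ u) = (t ≫ u) * g)
    [IsAffine K.left] [LocallyOfFiniteType K.hom] [DiscreteTopology K.left]
    {A : Type u} [CommRing A] [HopfAlgebra k A] [Module.Finite k A] (q : CoactBr.sp k A ⟶ K) [IsMonHom q]
    [IsIso q] {ℓ : ℕ} [Fact ℓ.Prime] (hA : Module.finrank k A = ℓ)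
    {T : Over (Spec (CommRingCat.of k))} (g h : T ⟶ G) : g * h = h * g := by
  classical
  haveI := hex.1
  haveI := hex.2.1
  let Gm := Red.Gm (Spec (CommRingCat.of k))
  have huv : ∀ {T : Over (Spec (CommRingCat.of k))} (t : T ⟶ Gm), (t ≫ u) ≫ v = 1 := fun t => by
    rw [Category.assoc, hex.2.2.1, MonObj.comp_one]
  obtain ⟨s, hs, hs1⟩ := exists_section hex hcentral
  obtain ⟨hGa, hGf⟩ := isAffine_and_lft hex s hs
  haveI := hGa
  haveI := hGf
  obtain ⟨d, hd⟩ := CentExt24.exists_u hex (fst G G * snd G G * (fst G G)⁻¹ * (snd G G)⁻¹) (by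
    simp only [MonObj.mul_comp, GrpObj.inv_comp]
    rw [_root_.mul_comm (fst G G ≫ v), mul_inv_cancel_right, mul_inv_cancel])
  have hdp : ∀ {T : Over (Spec (CommRingCat.of k))} (x y : T ⟶ G),
      (lift x y ≫ d) ≫ u = x * y * x⁻¹ * y⁻¹ := fun x y => by
    rw [Category.assoc, hd]
    simp only [MonObj.comp_mul, GrpObj.comp_inv, lift_fst, lift_snd]
  let c : K ⊗ K ⟶ Gm := lift (fst K K ≫ s) (snd K K ≫ s) ≫ d
  have hc : ∀ {T : Over (Spec (CommRingCat.of k))} (x y : T ⟶ K),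
      (lift x y ≫ c) ≫ u = (x ≫ s) * (y ≫ s) * (x ≫ s)⁻¹ * (y ≫ s)⁻¹ := fun x y => by
    rw [← hdp]
    simp only [c, comp_lift_assoc, lift_fst_assoc, lift_snd_assoc]
  -- the commutator depends only on the images
  have hind : ∀ {T : Over (Spec (CommRingCat.of k))} (a b a' b' : T ⟶ G), a ≫ v = a' ≫ v → b ≫ v = b' ≫ v →
      a * b * a⁻¹ * b⁻¹ = a' * b' * a'⁻¹ * b'⁻¹ := by
    intro T a b a' b' ea eb
    obtain ⟨z, rfl, -⟩ := CentExt24.existsUnique_mul hex a' a ea.symm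
    obtain ⟨w, rfl, -⟩ := CentExt24.existsUnique_mul hex b' b eb.symm
    have hz := fun g => hcentral T g z
    have hw := fun g => hcentral T g w
    calc (a' * (z ≫ u)) * (b' * (w ≫ u)) * (a' * (z ≫ u))⁻¹ * (b' * (w ≫ u))⁻¹
        = a' * ((z ≫ u) * b') * ((w ≫ u) * (z ≫ u)⁻¹) * a'⁻¹ * (w ≫ u)⁻¹ * b'⁻¹ := by group
      _ = a' * (b' * (z ≫ u)) * ((z ≫ u)⁻¹ * (w ≫ u)) * a'⁻¹ * (w ≫ u)⁻¹ * b'⁻¹ := by rw [hz b', hw (z ≫ u)⁻¹]
      _ = a' * b' * ((w ≫ u) * a'⁻¹) * (w ≫ u)⁻¹ * b'⁻¹ := by group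
      _ = a' * b' * (a'⁻¹ * (w ≫ u)) * (w ≫ u)⁻¹ * b'⁻¹ := by rw [hw a'⁻¹]
      _ = _ := by group
  have hsv : ∀ {T : Over (Spec (CommRingCat.of k))} (x : T ⟶ K), (x ≫ s) ≫ v = x := fun x => by
    rw [Category.assoc, hs, Category.comp_id]
  have hcc : ∀ {T : Over (Spec (CommRingCat.of k))} (a b : T ⟶ G) (g : T ⟶ G),
      (a * b * a⁻¹ * b⁻¹) * g = g * (a * b * a⁻¹ * b⁻¹) := fun a b g => by
    rw [← hdp]; exact (hcentral _ g _).symm
  have hone : ∀ {T : Over (Spec (CommRingCat.of k))}, (1 : T ⟶ K) ≫ s = 1 := fun {T} => by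
    rw [Hom.one_def, Category.assoc, hs1, ← Hom.one_def]
  have hlm : ∀ {T : Over (Spec (CommRingCat.of k))} (x x' y : T ⟶ K),
      lift (x * x') y ≫ c = (lift x y ≫ c) * (lift x' y ≫ c) := by
    intro T x x' y
    refine CentExt24.cancel_u hex ?_
    rw [hc, hind _ _ ((x ≫ s) * (x' ≫ s)) (y ≫ s) (by rw [hsv, MonObj.mul_comp, hsv, hsv]) rfl,
      MonObj.mul_comp, hc, hc]
    set a₁ := x ≫ s
    set a₂ := x' ≫ s
    set b := y ≫ s
    calc a₁ * a₂ * b * (a₁ * a₂)⁻¹ * b⁻¹ = a₁ * ((a₂ * b * a₂⁻¹ * b⁻¹) * (b * a₁⁻¹ * b⁻¹)) := by group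
      _ = a₁ * ((b * a₁⁻¹ * b⁻¹) * (a₂ * b * a₂⁻¹ * b⁻¹)) := by rw [hcc a₂ b]
      _ = _ := by group
  have hanti : ∀ {T : Over (Spec (CommRingCat.of k))} (x y : T ⟶ K), lift x y ≫ c = (lift y x ≫ c)⁻¹ := by
    intro T x y
    refine CentExt24.cancel_u hex ?_
    rw [hc, GrpObj.inv_comp, hc]
    group
  have hrm : ∀ {T : Over (Spec (CommRingCat.of k))} (x y y' : T ⟶ K),
      lift x (y * y') ≫ c = (lift x y ≫ c) * (lift x y' ≫ c) := by
    intro T x y y'
    refine CentExt24.cancel_u hex ?_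
    rw [hc, hind _ _ (x ≫ s) ((y ≫ s) * (y' ≫ s)) rfl (by rw [hsv, MonObj.mul_comp, hsv, hsv]),
      MonObj.mul_comp, hc, hc]
    set a := x ≫ s
    set b := y ≫ s
    set b' := y' ≫ s
    calc a * (b * b') * a⁻¹ * (b * b')⁻¹ = (a * b * a⁻¹ * b⁻¹) * (b * ((a * b' * a⁻¹ * b'⁻¹) * b⁻¹)) := by group
      _ = (a * b * a⁻¹ * b⁻¹) * (b * (b⁻¹ * (a * b' * a⁻¹ * b'⁻¹))) := by rw [hcc a b']
      _ = _ := by group
  have hl1 : ∀ {T : Over (Spec (CommRingCat.of k))} (y : T ⟶ K), lift 1 y ≫ c = 1 := fun y => by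
    refine CentExt24.cancel_u hex ?_
    rw [hc, hone, MonObj.one_comp]; group
  have halt : ∀ {T : Over (Spec (CommRingCat.of k))} (x : T ⟶ K), lift x x ≫ c = 1 := fun x => by
    refine CentExt24.cancel_u hex ?_
    rw [hc, MonObj.one_comp]; group
  -- coordinates
  let Cm := charsDS (Spec (CommRingCat.of k)) ℤ
  let gen : Multiplicative ℤ := Multiplicative.ofAdd 1
  let P : ∀ {B : Type u} [CommRing B] [Algebra k B], WithConv (A →ₐ[k] B) → (CoactBr.sp k B ⟶ K) :=
    fun χ => CoactBr.pt χ.ofConv ≫ q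
  let W : ∀ (B : Type u) [CommRing B] [Algebra k B], WithConv (A →ₐ[k] B) → WithConv (A →ₐ[k] B) → B :=
    fun B _ _ χ ψ => (Scheme.ΓSpecIso (CommRingCat.of B)).hom (Cm.ch (lift (P χ) (P ψ) ≫ c) gen)
  have hPmul : ∀ {B : Type u} [CommRing B] [Algebra k B] (χ ψ : WithConv (A →ₐ[k] B)),
      P (χ * ψ) = P χ * P ψ := fun χ ψ => by
    simp only [P, pt_mul, MonObj.mul_comp]
  have hP1 : ∀ {B : Type u} [CommRing B] [Algebra k B], P (1 : WithConv (A →ₐ[k] B)) = 1 := by
    intro B _ _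
    simp only [P, pt_one, MonObj.one_comp]
  have wnat : ∀ (B B' : Type u) [CommRing B] [Algebra k B] [CommRing B'] [Algebra k B'] (h : B →ₐ[k] B')
      (χ ψ : WithConv (A →ₐ[k] B)),
      W B' (toConv (h.comp χ.ofConv)) (toConv (h.comp ψ.ofConv)) = h (W B χ ψ) := by
    intro B B' _ _ _ _ h χ ψ
    simp only [W, P, ofConv_toConv, CoactBr.pt_comp, Category.assoc]
    rw [← comp_lift, Category.assoc, Cm.nat]
    exact ConcreteCategory.congr_hom (Scheme.ΓSpecIso_naturality (CommRingCat.ofHom h.toRingHom)) _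
  have wl : ∀ (B : Type u) [CommRing B] [Algebra k B] (χ χ' ψ : WithConv (A →ₐ[k] B)),
      W B (χ * χ') ψ = W B χ ψ * W B χ' ψ := by
    intro B _ _ χ χ' ψ
    simp only [W, hPmul, hlm, Cm.mul]
    exact map_mul _ _ _
  have wr : ∀ (B : Type u) [CommRing B] [Algebra k B] (χ ψ ψ' : WithConv (A →ₐ[k] B)),
      W B χ (ψ * ψ') = W B χ ψ * W B χ ψ' := by
    intro B _ _ χ ψ ψ'
    simp only [W, hPmul, hrm, Cm.mul]
    exact map_mul _ _ _
  have wl1 : ∀ (B : Type u) [CommRing B] [Algebra k B] (ψ : WithConv (A →ₐ[k] B)), W B 1 ψ = 1 := by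
    intro B _ _ ψ
    simp only [W, hP1, hl1, Cm.one]
    exact map_one _
  have wr1 : ∀ (B : Type u) [CommRing B] [Algebra k B] (χ : WithConv (A →ₐ[k] B)), W B χ 1 = 1 := by
    intro B _ _ χ
    simp only [W, hP1]
    rw [hanti, hl1, inv_one]
    simp only [Cm.one]
    exact map_one _
  have walt : ∀ (B : Type u) [CommRing B] [Algebra k B] (χ : WithConv (A →ₐ[k] B)), W B χ χ = 1 := by
    intro B _ _ χ
    simp only [W, halt, Cm.one]
    exact map_one _
  have wlie : ∀ (B : Type u) [CommRing B] [Algebra k B] (D : A →ₐ[k] DualNumber k)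
      (_ : toConv ((TrivSqZeroExt.fstHom k k k).comp D) = 1) (h₁ h₂ : DualNumber k →ₐ[k] B),
      W B (toConv (h₁.comp D)) (toConv (h₂.comp D)) = 1 := by
    intro B _ _ D hD h₁ h₂
    have hz : CoactBr.pt (TrivSqZeroExt.fstHom k k k) ≫ CoactBr.pt D ≫ q ≫ s = 1 := by
      rw [← Category.assoc, ← CoactBr.pt_comp, show (TrivSqZeroExt.fstHom k k k).comp D =
        (1 : WithConv (A →ₐ[k] k)).ofConv from congrArg WithConv.ofConv hD, pt_one, ← Category.assoc,
        MonObj.one_comp, hone]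
    have he := commute_tangent (CoactBr.pt D ≫ q ≫ s) hz h₁ h₂
    have hc0 : lift (P (toConv (h₁.comp D))) (P (toConv (h₂.comp D))) ≫ c = 1 := by
      refine CentExt24.cancel_u hex ?_
      simp only [P, ofConv_toConv, CoactBr.pt_comp, hc, Category.assoc]
      rw [he.eq, mul_inv_cancel_right, mul_inv_cancel, MonObj.one_comp]
    simp only [W, hc0, Cm.one]
    exact map_one _
  -- triviality
  have hW : ∀ (B : Type u) [CommRing B] [Algebra k B] (χ ψ : WithConv (A →ₐ[k] B)), W B χ ψ = 1 := by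
    rcases OT.dichotomy (p := ℓ) hA with ⟨p, -, -, hbij⟩ | ⟨hchar, δ, hδ, y, -, hy⟩
    · exact fun B _ _ => points_pairing_eq_one p hbij W wnat wl wr wl1 wr1 walt B
    haveI := hchar
    haveI : Coalgebra.IsCocomm k A := OT.isCocomm_of_rankAtStalk_eq_prime (p := ℓ) (OT.rankAtStalk_field hA)
    rcases OT.dichotomy (p := ℓ) (OT.finrank_D hA) with ⟨p, hinj, hp, -⟩ | ⟨-, δ', hδ', y', -, hy'⟩
    · obtain ⟨e⟩ := OT.iso_mu_of_dual_points hA p hinj hp
      exact fun B _ _ => mu_case e W wnat wl wr wl1 wr1 walt B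
    · obtain ⟨x, hx0, hx⟩ := OT.exists_primitive hδ' (fun e => by simp [e] at hy')
      obtain ⟨e⟩ := OT.iso_alpha_of_primitive hA hδ (fun e => by simp [e] at hy) x hx0 hx
      exact fun B _ _ => alpha_case e W wnat wl wr wl1 wr1 wlie B
  -- conclusion
  have hgen : ∀ {X : Over (Spec (CommRingCat.of k))} (z : X ⟶ Gm), Cm.ch z gen = 1 → z = 1 := by
    intro X z hz
    refine Cm.inj fun a => ?_
    have h : Cm.ch z = 1 := by
      refine MonoidHom.ext_mint ?_
      rw [MonoidHom.one_apply]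
      exact hz
    rw [h, Cm.one, MonoidHom.one_apply]
  have hall : ∀ {X : Over (Spec (CommRingCat.of k))} (x y : X ⟶ K), lift x y ≫ c = 1 := by
    intro X x y
    refine hgen _ ?_
    letI := (alg X).toAlgebra
    let t : X ⟶ CoactBr.sp k Γ(X.left, ⊤) := mk (RingHom.id _) fun _ => rfl
    have hev : ∀ b : Γ(X.left, ⊤), t.left.appTop ((Scheme.ΓSpecIso (CommRingCat.of Γ(X.left, ⊤))).inv b) = b :=
      fun b => RingHom.congr_fun (ev_mk (T := X) (RingHom.id Γ(X.left, ⊤)) fun _ => rfl) b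
    have hfac : ∀ f : X ⟶ K, ∃ χ : WithConv (A →ₐ[k] Γ(X.left, ⊤)), t ≫ P χ = f := by
      intro f
      refine ⟨toConv ⟨ev (f ≫ inv q), ev_algebraMap _⟩, ?_⟩
      show t ≫ CoactBr.pt _ ≫ q = f
      rw [← Category.assoc, ← IsIso.eq_comp_inv]
      refine ev_injective fun a => ?_
      rw [ev_comp, ev_pt]
      exact hev _
    obtain ⟨χ, hχ⟩ := hfac x
    obtain ⟨ψ, hψ⟩ := hfac y
    rw [← hχ, ← hψ, ← comp_lift, Category.assoc, Cm.nat]
    have h' : Cm.ch (lift (P χ) (P ψ) ≫ c) gen = 1 :=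
      (Scheme.ΓSpecIso _).commRingCatIsoToRingEquiv.injective
        ((hW Γ(X.left, ⊤) χ ψ).trans (map_one _).symm)
    rw [h', map_one]
  have h1 := hc (g ≫ v) (h ≫ v)
  rw [hall, MonObj.one_comp, hind _ _ g h (by rw [hsv]) (by rw [hsv])] at h1
  exact commutatorElement_eq_one_iff_mul_comm.1 h1.symm

end Groth.Agent.PrimeExt15
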